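import Groth.Agent.SubNhd19.Spread
import Mathlib.AlgebraicGeometry.Noetherian
import Mathlib.RingTheory.Filtration
import Mathlib.RingTheory.Artinian.Module

/-!
# Directed families of immersions exhausting all infinitesimal fibres
-/

universe u

open CategoryTheory CategoryTheory.Limits AlgebraicGeometry

set_option linter.style.haveILetI false

noncomputable section

namespace Groth.Agent.ImmFam19

/-- In a Noetherian local ring a directed family of ideals inside every power of the maximal ideal, zero away from the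
closed point, is eventually zero. -/
theorem exists_eq_bot {R : Type u} [CommRing R] [IsLocalRing R] [IsNoetherianRing R] {D : Type u} [Preorder D]
    [IsDirected D (fun a b => a ≤ b)] (I : D → Ideal R) (hI : Antitone I)
    (hsmall : ∀ n : ℕ, ∃ i, I i ≤ IsLocalRing.maximalIdeal R ^ n) (i₀ : D)
    (hpunct : ∀ q : PrimeSpectrum R, q.asIdeal ≠ IsLocalRing.maximalIdeal R → ∀ g ∈ I i₀, ∃ a ∉ q.asIdeal, a * g = 0) :
    ∃ i, I i = ⊥ := by
  classical
  let 𝔪 := IsLocalRing.maximalIdeal R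
  let ann : Ideal R := Module.annihilator R (I i₀)
  have hrad : 𝔪 ≤ ann.radical := by
    rw [Ideal.radical_eq_sInf]
    refine le_sInf fun P ⟨hP, hPp⟩ => ?_
    by_contra hm
    have hne : (⟨P, hPp⟩ : PrimeSpectrum R).asIdeal ≠ 𝔪 := fun h => hm (le_of_eq h.symm)
    obtain ⟨F, hF⟩ := IsNoetherian.noetherian (I i₀)
    have hg : ∀ g ∈ F, ∃ a ∉ P, a * g = 0 := fun g hg => hpunct ⟨P, hPp⟩ hne g (hF ▸ Submodule.subset_span hg)
    choose! a ha hag using hg
    have hprod : (∏ g ∈ F, a g) ∉ P := fun h => by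
      obtain ⟨g, hg, hgP⟩ := hPp.prod_mem_iff.mp h
      exact ha g hg hgP
    refine hprod (hP ?_)
    rw [Module.mem_annihilator]
    rintro ⟨g, hg⟩
    refine Subtype.ext ?_
    show (∏ g ∈ F, a g) * g = 0
    rw [← hF] at hg
    refine Submodule.span_induction (p := fun g _ => (∏ g ∈ F, a g) * g = 0) (fun g hg => ?_) (mul_zero _)
      (fun x y _ _ hx hy => by rw [mul_add, hx, hy, add_zero])
      (fun r x _ hx => by rw [smul_eq_mul, mul_left_comm, hx, mul_zero]) hg
    obtain ⟨c, hc⟩ := Finset.dvd_prod_of_mem a hg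
    rw [hc, mul_right_comm, hag g hg, zero_mul]
  obtain ⟨N, hN⟩ := Ideal.exists_pow_le_of_le_radical_of_fg hrad (IsNoetherian.noetherian 𝔪)
  have hkill : ∀ a ∈ 𝔪 ^ N, ∀ g ∈ I i₀, a * g = 0 := fun a ha g hg =>
    congrArg Subtype.val (Module.mem_annihilator.mp (hN ha) ⟨g, hg⟩)
  haveI : Nontrivial (R ⧸ 𝔪 ^ (N + 1)) := Ideal.Quotient.nontrivial_iff.mpr fun h =>
    (IsLocalRing.maximalIdeal.isMaximal R).ne_top (top_le_iff.mp (h.ge.trans (Ideal.pow_le_self N.succ_ne_zero)))
  haveI : IsLocalRing (R ⧸ 𝔪 ^ (N + 1)) :=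
    IsLocalRing.of_surjective' (Ideal.Quotient.mk _) Ideal.Quotient.mk_surjective
  haveI : IsArtinianRing (R ⧸ 𝔪 ^ (N + 1)) := by
    rw [isArtinianRing_iff_isNilpotent_maximalIdeal]
    · refine ⟨N + 1, ?_⟩
      rw [Ideal.zero_eq_bot, eq_bot_iff]
      intro y hy
      have hle : IsLocalRing.maximalIdeal (R ⧸ 𝔪 ^ (N + 1)) ≤ 𝔪.map (Ideal.Quotient.mk _) := fun z hz => by
        obtain ⟨r, rfl⟩ := Ideal.Quotient.mk_surjective z
        exact Ideal.mem_map_of_mem _ fun hu => hz (hu.map _)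
      have hy' := Ideal.pow_right_mono hle (N + 1) hy
      rwa [← Ideal.map_pow, Ideal.map_quotient_self] at hy'
  haveI : IsArtinian R (I i₀) := by
    letI : Module (R ⧸ 𝔪 ^ (N + 1)) (I i₀) :=
      Module.IsTorsionBySet.module (fun g a => Subtype.ext (hkill a.1 (Ideal.pow_le_pow_right (Nat.le_succ N) a.2) g.1 g.2))
    haveI : IsScalarTower R (R ⧸ 𝔪 ^ (N + 1)) (I i₀) :=
      Module.IsTorsionBySet.isScalarTower _
    haveI : Module.Finite R (I i₀) := Module.Finite.iff_fg.mpr (IsNoetherian.noetherian _)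
    haveI : Module.Finite (R ⧸ 𝔪 ^ (N + 1)) (I i₀) := Module.Finite.of_restrictScalars_finite R _ _
    exact isArtinian_of_surjective_algebraMap (R := R ⧸ 𝔪 ^ (N + 1)) (S := R) Ideal.Quotient.mk_surjective
  obtain ⟨J, ⟨j, hj₀, rfl⟩, hmin⟩ := IsArtinian.set_has_minimal
    {J : Submodule R (I i₀) | ∃ i, i₀ ≤ i ∧ J = Submodule.comap (Submodule.subtype (I i₀)) (I i)}
    ⟨_, i₀, le_rfl, rfl⟩
  refine ⟨j, eq_bot_iff.mpr ((le_iInf fun n => ?_).trans
    (le_of_eq (Ideal.iInf_pow_eq_bot_of_isLocalRing 𝔪 (IsLocalRing.maximalIdeal.isMaximal R).ne_top)))⟩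
  obtain ⟨i, hi⟩ := hsmall n
  obtain ⟨l, hjl, hil⟩ := directed_of (· ≤ ·) j i
  intro g hg
  have hle : Submodule.comap (Submodule.subtype (I i₀)) (I l) ≤ Submodule.comap (Submodule.subtype (I i₀)) (I j) := Submodule.comap_mono (hI hjl)
  have hge := hle.lt_or_eq.resolve_left (hmin _ ⟨l, hj₀.trans hjl, rfl⟩)
  exact hi (hI hil (show (⟨g, hI hj₀ hg⟩ : I i₀) ∈ Submodule.comap (Submodule.subtype (I i₀)) (I l) from hge.symm ▸ hg))

variable {S X : Scheme.{u}}

/-- The points near which the immersion is an isomorphism. -/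
def isoLocus {Z : Scheme.{u}} (x : Z ⟶ X) : X.Opens :=
  ⨆ (V : X.Opens) (_ : ∃ l : (V : Scheme.{u}) ⟶ Z, l ≫ x = V.ι), V

theorem isIso_of_isoLocus {Z : Scheme.{u}} (x : Z ⟶ X) [Mono x] (h : isoLocus x = ⊤) : IsIso x := by
  have hcov : ∀ p : X, ∃ V : X.Opens, p ∈ V ∧ ∃ l : (V : Scheme.{u}) ⟶ Z, l ≫ x = V.ι := fun p => by
    have hp : p ∈ isoLocus x := by rw [h]; trivial
    simp only [isoLocus, TopologicalSpace.Opens.mem_iSup] at hp
    obtain ⟨V, hV, hpV⟩ := hp
    exact ⟨V, hpV, hV⟩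
  choose V hV l hl using hcov
  let 𝒰 : X.OpenCover := X.openCoverOfIsOpenCover V
    (TopologicalSpace.IsOpenCover.mk (top_unique fun p _ => TopologicalSpace.Opens.mem_iSup.mpr ⟨p, hV p⟩))
  let g := 𝒰.glueMorphisms l fun p q => by
    rw [← cancel_mono x, Category.assoc, Category.assoc]
    show pullback.fst (V p).ι (V q).ι ≫ l p ≫ x = pullback.snd (V p).ι (V q).ι ≫ l q ≫ x
    rw [hl, hl, pullback.condition]
  have hg : g ≫ x = 𝟙 X := 𝒰.hom_ext _ _ fun p => by
    rw [𝒰.ι_glueMorphisms_assoc, Category.comp_id]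
    exact hl p
  exact ⟨g, by rw [← cancel_mono x, Category.assoc, hg, Category.id_comp, Category.comp_id], hg⟩

variable [IsNoetherian S] (f : X ⟶ S) [LocallyOfFiniteType f] [QuasiCompact f]

/-- A directed family of immersions exhausting all infinitesimal fibres contains an isomorphism. -/
theorem exists_isIso {D : Type u} [Preorder D] [IsDirected D (fun a b => a ≤ b)] [Nonempty D]
    (Xi : D → Scheme.{u}) (x : ∀ i, Xi i ⟶ X) (hx : ∀ i, IsImmersion (x i))
    (hmono : ∀ i j, i ≤ j → ∃ t : Xi i ⟶ Xi j, t ≫ x j = x i)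
    (h : ∀ (s : S) (n : ℕ), ∃ i : D,
      IsIso (pullback.snd (x i) (pullback.fst f
        (Spec.map (CommRingCat.ofHom (Ideal.Quotient.mk (IsLocalRing.maximalIdeal (S.presheaf.stalk s) ^ (n + 1)))) ≫
          S.fromSpecStalk s)))) :
    ∃ i : D, IsIso (x i) := by
  classical
  haveI : IsLocallyNoetherian X := LocallyOfFiniteType.isLocallyNoetherian f
  haveI : CompactSpace X := QuasiCompact.compactSpace_of_compactSpace f
  haveI : IsNoetherian X := {}
  haveI := hx
  have hmonoU : ∀ i j, i ≤ j → isoLocus (x i) ≤ isoLocus (x j) := fun i j hij => by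
    obtain ⟨t, ht⟩ := hmono i j hij
    refine iSup₂_le fun V hV => ?_
    obtain ⟨l, hl⟩ := hV
    exact le_iSup₂ (f := fun (V : X.Opens) (_ : ∃ l : (V : Scheme.{u}) ⟶ Xi j, l ≫ x j = V.ι) => V) V
      ⟨l ≫ t, by rw [Category.assoc, ht, hl]⟩
  obtain ⟨_, ⟨i₁, rfl⟩, hmax⟩ := (wellFounded_gt (α := X.Opens)).has_min
    (Set.range fun i => isoLocus (x i)) (Set.range_nonempty _)
  by_cases htop : isoLocus (x i₁) = ⊤
  · exact ⟨i₁, isIso_of_isoLocus _ htop⟩
  exfalso
  -- a generic point of the bad locus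
  obtain ⟨p, hp, hgen⟩ : ∃ p : X, p ∉ isoLocus (x i₁) ∧ ∀ q : X, q ⤳ p → q ≠ p → q ∈ isoLocus (x i₁) := by
    have hne : ((isoLocus (x i₁) : Set X)ᶜ).Nonempty :=
      Set.nonempty_compl.mpr fun h => htop (TopologicalSpace.Opens.ext h)
    obtain ⟨y, hy⟩ := hne
    let Zc : TopologicalSpace.Closeds X := ⟨_, (isoLocus (x i₁)).isOpen.isClosed_compl⟩
    obtain ⟨C, hC, hyC⟩ : ∃ C ∈ irreducibleComponents ↥((isoLocus (x i₁) : Set X)ᶜ), (⟨y, hy⟩ : ↥((isoLocus (x i₁) : Set X)ᶜ)) ∈ C :=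
      ⟨_, irreducibleComponent_mem_irreducibleComponents _, mem_irreducibleComponent⟩
    have hirr : IsIrreducible ((Subtype.val) '' C : Set X) := hC.1.image _ continuous_subtype_val.continuousOn
    have hcl : IsClosed ((Subtype.val) '' C : Set X) :=
      (isoLocus (x i₁)).isOpen.isClosed_compl.isClosedMap_subtype_val _ (isClosed_of_mem_irreducibleComponents C hC)
    obtain ⟨p, hp⟩ := QuasiSober.sober hirr hcl
    have hpC : p ∈ ((Subtype.val) '' C : Set X) := hp.mem
    obtain ⟨p', hp', rfl⟩ := hpC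
    refine ⟨p', p'.2, fun q hq hne => ?_⟩
    by_contra hqU
    have hcl' : IsClosed ((isoLocus (x i₁) : Set X)ᶜ) := (isoLocus (x i₁)).isOpen.isClosed_compl
    let Cq : Set ↥((isoLocus (x i₁) : Set X)ᶜ) := closure {⟨q, hqU⟩}
    have hsub : C ⊆ Cq := by
      intro c hc
      have h1 : (p' : X) ⤳ c := hp.specializes ⟨c, hc, rfl⟩
      have h2 : q ⤳ (c : X) := hq.trans h1
      rw [← specializes_iff_mem_closure]
      exact (subtype_specializes_iff _ _).mpr h2
    have heq : C = Cq := hsub.antisymm (hC.2 isIrreducible_singleton.closure hsub)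
    have hqC : (⟨q, hqU⟩ : ↥((isoLocus (x i₁) : Set X)ᶜ)) ∈ C := heq ▸ subset_closure rfl
    exact hne (hq.antisymm (hp.specializes ⟨_, hqC, rfl⟩)).eq
  -- the ideals in the local ring
  let R : Type u := X.presheaf.stalk p
  haveI : IsLocalRing R := inferInstanceAs (IsLocalRing (X.presheaf.stalk p))
  haveI : IsNoetherianRing R := inferInstanceAs (IsNoetherianRing (X.presheaf.stalk p))
  let a : Spec (CommRingCat.of R) ⟶ X := X.fromSpecStalk p
  obtain ⟨i₂, hi₂⟩ := h (f p) 0
  obtain ⟨i₀, h₁₀, h₂₀⟩ := directed_of (· ≤ ·) i₁ i₂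
  let D' := {i : D // i₀ ≤ i}
  haveI : IsDirected D' (fun a b => a ≤ b) := ⟨fun a b => by
    obtain ⟨c, hac, hbc⟩ := directed_of (· ≤ ·) a.1 b.1
    exact ⟨⟨c, a.2.trans hac⟩, hac, hbc⟩⟩
  have hclosed : ∀ i : D', IsClosedImmersion (pullback.snd (x i.1) a) := by
    intro i
    -- the closed point lies in the image
    have hpr : p ∈ Set.range (x i.1).base := by
      obtain ⟨t, ht⟩ := hmono i₂ i.1 (h₂₀.trans i.2)
      have : p ∈ Set.range (x i₂).base := by
        let sq := Spec.map (CommRingCat.ofHom (Ideal.Quotient.mk (IsLocalRing.maximalIdeal (S.presheaf.stalk (f p)) ^ (0 + 1)))) ≫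
          S.fromSpecStalk (f p)
        have hfp : f p ∈ Set.range sq.base := by
          let z : PrimeSpectrum (S.presheaf.stalk (f p)) := IsLocalRing.closedPoint _
          have hz : z ∈ Set.range (PrimeSpectrum.comap
              (Ideal.Quotient.mk (IsLocalRing.maximalIdeal (S.presheaf.stalk (f p)) ^ (0 + 1)))) := by
            rw [range_comap_of_surjective _ _ Ideal.Quotient.mk_surjective, Ideal.mk_ker]
            show IsLocalRing.maximalIdeal _ ^ (0 + 1) ≤ IsLocalRing.maximalIdeal _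
            rw [zero_add, pow_one]
          obtain ⟨w, hw⟩ := hz
          refine ⟨w, ?_⟩
          exact (Scheme.Hom.comp_apply _ _ _).trans ((congrArg _ hw).trans Scheme.fromSpecStalk_closedPoint)
        obtain ⟨w, hw⟩ := hfp
        obtain ⟨v, hv, -⟩ := Scheme.Pullback.exists_preimage_pullback (f := f) (g := sq) p w hw.symm
        haveI : IsIso (pullback.snd (x i₂) (pullback.fst f sq)) := hi₂
        obtain ⟨v', hv'⟩ := (pullback.snd (x i₂) (pullback.fst f sq)).surjective v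
        refine ⟨pullback.fst (x i₂) (pullback.fst f sq) v', ?_⟩
        rw [← Scheme.Hom.comp_apply, pullback.condition, Scheme.Hom.comp_apply, hv', hv]
      obtain ⟨z, hz⟩ := this
      exact ⟨t z, by rw [← Scheme.Hom.comp_apply, ht, hz]⟩
    let q := pullback.snd (x i.1) a
    have hcp : IsLocalRing.closedPoint R ∈ Set.range q.base := by
      rw [Scheme.Pullback.range_snd]
      refine Set.mem_preimage.mpr ?_
      rwa [show a (IsLocalRing.closedPoint R) = p from Scheme.fromSpecStalk_closedPoint]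
    have hW : q.coborderRange = ⊤ := by
      refine IsLocalRing.closed_point_mem_iff.mp ?_
      obtain ⟨z, hz⟩ := hcp
      have h1 : q.coborderRange.ι (q.liftCoborder z) = q z :=
        (Scheme.Hom.comp_apply _ _ _).symm.trans (congrArg (fun k => k z) q.liftCoborder_ι)
      rw [← hz, ← h1]
      exact (q.liftCoborder z : q.coborderRange).2
    haveI : IsIso q.coborderRange.ι := by
      rw [isIso_iff_isOpenImmersion_and_surjective]
      exact ⟨inferInstance, ⟨fun z => ⟨⟨z, hW.ge trivial⟩, rfl⟩⟩⟩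
    show IsClosedImmersion q
    rw [← q.liftCoborder_ι]
    infer_instance
  choose I e he using fun i => IsClosedImmersion.Spec_iff.mp (hclosed i)
  have hfac : ∀ (i : D') {T : Type u} [CommRing T] (φ : R →+* T),
      (∃ l, l ≫ x i.1 = Spec.map (CommRingCat.ofHom φ) ≫ a) → I i ≤ RingHom.ker φ := by
    intro i T _ φ ⟨l, hl⟩ r hr
    obtain ⟨θ, hθ⟩ : ∃ θ, Spec.map θ = pullback.lift l _ hl ≫ (e i).hom := ⟨_, Spec.map_preimage _⟩
    have hh : CommRingCat.ofHom φ = CommRingCat.ofHom (Ideal.Quotient.mk (I i)) ≫ θ := by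
      apply Spec.map_injective
      rw [Spec.map_comp, hθ, Category.assoc, ← he, pullback.lift_snd]
    have := congrArg (fun k => k.hom r) hh
    simp only [CommRingCat.hom_ofHom, CommRingCat.hom_comp, RingHom.comp_apply] at this
    rw [RingHom.mem_ker, this, Ideal.Quotient.eq_zero_iff_mem.mpr hr, map_zero]
  have hlift : ∀ i : D', ((e i).inv ≫ pullback.fst (x i.1) a) ≫ x i.1 =
      Spec.map (CommRingCat.ofHom (Ideal.Quotient.mk (I i))) ≫ a := fun i => by
    rw [Category.assoc, pullback.condition, ← Category.assoc, he, Iso.inv_hom_id_assoc]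
  have hanti : Antitone I := fun i j hij => by
    obtain ⟨t, ht⟩ := hmono i.1 j.1 hij
    have := hfac j (Ideal.Quotient.mk (I i)) ⟨((e i).inv ≫ pullback.fst _ _) ≫ t, by rw [Category.assoc, ht, hlift]⟩
    rwa [Ideal.mk_ker] at this
  have hsmall : ∀ n : ℕ, ∃ i, I i ≤ IsLocalRing.maximalIdeal R ^ n := fun n => by
    obtain ⟨i, hi⟩ := h (f p) n
    obtain ⟨l, hil, h0l⟩ := directed_of (· ≤ ·) i i₀
    obtain ⟨t, ht⟩ := hmono i l hil
    let K := (IsLocalRing.maximalIdeal (S.presheaf.stalk (f p)) ^ (n + 1)).map (f.stalkMap p).hom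
    let φ : R →+* R ⧸ K := Ideal.Quotient.mk K
    let ψ := Ideal.quotientMap K (f.stalkMap p).hom (Ideal.map_le_iff_le_comap.mp le_rfl)
    let sq := Spec.map (CommRingCat.ofHom (Ideal.Quotient.mk (IsLocalRing.maximalIdeal (S.presheaf.stalk (f p)) ^ (n + 1)))) ≫
      S.fromSpecStalk (f p)
    haveI : IsIso (pullback.snd (x i) (pullback.fst f sq)) := hi
    have hw : (Spec.map (CommRingCat.ofHom φ) ≫ a) ≫ f = Spec.map (CommRingCat.ofHom ψ) ≫ sq := by
      show _ = _ ≫ Spec.map _ ≫ _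
      rw [Category.assoc, show a ≫ f = Spec.map (f.stalkMap p) ≫ S.fromSpecStalk (f p) from
        (Scheme.SpecMap_stalkMap_fromSpecStalk f).symm, ← Category.assoc, ← Category.assoc, ← Spec.map_comp,
        ← Spec.map_comp]
      rfl
    have := hfac ⟨l, h0l⟩ φ ⟨(pullback.lift (Spec.map (CommRingCat.ofHom φ) ≫ a) _ hw ≫
      inv (pullback.snd (x i) (pullback.fst f sq)) ≫ pullback.fst (x i) (pullback.fst f sq)) ≫ t, by
        rw [Category.assoc, ht, Category.assoc, Category.assoc, pullback.condition, IsIso.inv_hom_id_assoc,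
          pullback.lift_fst]⟩
    rw [Ideal.mk_ker] at this
    refine ⟨⟨l, h0l⟩, this.trans ?_⟩
    refine le_trans ?_ (Ideal.pow_le_pow_right (Nat.le_succ n))
    show (IsLocalRing.maximalIdeal (S.presheaf.stalk (f p)) ^ (n + 1)).map (f.stalkMap p).hom ≤ _
    rw [Ideal.map_pow]
    refine Ideal.pow_right_mono ?_ _
    exact Ideal.map_le_iff_le_comap.2 fun r hr hu => hr (isUnit_of_map_unit (f.stalkMap p).hom r hu)
  obtain ⟨i, hi⟩ := exists_eq_bot I hanti hsmall ⟨i₀, le_rfl⟩ fun q hq g hg => by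
    have hqp : a q ⤳ p := by
      have : a q ∈ Set.range a.base := ⟨q, rfl⟩
      rwa [Scheme.range_fromSpecStalk] at this
    have hne : a q ≠ p := fun h => hq (congrArg PrimeSpectrum.asIdeal
      ((X.fromSpecStalk p).isEmbedding.injective (h.trans Scheme.fromSpecStalk_closedPoint.symm)))
    have hqU := hmonoU i₁ i₀ h₁₀ (hgen _ hqp hne)
    simp only [isoLocus, TopologicalSpace.Opens.mem_iSup] at hqU
    obtain ⟨V, ⟨l, hl⟩, hqV⟩ := hqU
    let φ : R →+* Localization.AtPrime q.asIdeal := algebraMap R _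
    have hr : Set.range (Spec.map (CommRingCat.ofHom φ) ≫ a).base ⊆ Set.range V.ι.base := by
      rintro _ ⟨z, rfl⟩
      rw [Scheme.Opens.range_ι, Scheme.Hom.comp_apply]
      have hz : (Spec.map (CommRingCat.ofHom φ)) z ⤳ q := by
        have hmem : PrimeSpectrum.comap φ z ∈ Set.range (PrimeSpectrum.comap φ) := ⟨z, rfl⟩
        rw [PrimeSpectrum.localization_comap_range _ q.asIdeal.primeCompl] at hmem
        exact (PrimeSpectrum.le_iff_specializes (PrimeSpectrum.comap φ z) q).mp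
          (Set.disjoint_compl_left_iff_subset.mp hmem)
      exact (hz.map a.base.hom.continuous).mem_open V.isOpen hqV
    have := hfac ⟨i₀, le_rfl⟩ φ ⟨IsOpenImmersion.lift V.ι _ hr ≫ l, by
      rw [Category.assoc, hl, IsOpenImmersion.lift_fac]⟩ hg
    obtain ⟨⟨c, hc⟩, hcg⟩ := (IsLocalization.map_eq_zero_iff q.asIdeal.primeCompl _ g).mp this
    exact ⟨c, hc, hcg⟩
  -- spread out
  obtain ⟨W, hW, hpW, -⟩ := exists_isAffineOpen_mem_and_subset (TopologicalSpace.Opens.mem_top p)
  haveI : IsNoetherianRing Γ(X, W) := IsLocallyNoetherian.component_noetherian ⟨_, hW⟩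
  let M := (hW.primeIdealOf ⟨p, hpW⟩).asIdeal.primeCompl
  letI : Algebra Γ(X, W) (X.presheaf.stalk p) := (X.presheaf.germ W p hpW).hom.toAlgebra
  haveI := hW.isLocalization_stalk ⟨p, hpW⟩
  let τ₀ : (X.presheaf.stalk p : Type u) →+* Localization M :=
    IsLocalization.lift (M := M) (S := (X.presheaf.stalk p : Type u)) (g := algebraMap Γ(X, W) (Localization M))
      fun c => IsLocalization.map_units (Localization M) c
  let τ : X.presheaf.stalk p ⟶ CommRingCat.of (Localization M) := CommRingCat.ofHom τ₀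
  have hτ : Spec.map τ ≫ a = Spec.map (CommRingCat.ofHom (algebraMap Γ(X, W) (Localization M))) ≫ hW.fromSpec := by
    have h1 : X.presheaf.germ W p hpW ≫ τ = CommRingCat.ofHom (algebraMap Γ(X, W) (Localization M)) :=
      CommRingCat.hom_ext (IsLocalization.lift_comp _)
    show Spec.map τ ≫ X.fromSpecStalk p = _
    rw [← hW.fromSpecStalk_eq_fromSpecStalk hpW, IsAffineOpen.fromSpecStalk, ← Category.assoc, ← Spec.map_comp, h1]
  obtain ⟨l₀, hl₀⟩ : ∃ l₀, l₀ ≫ x i.1 = a := by
    refine ⟨Spec.map (CommRingCat.ofHom (Ideal.Quotient.lift (I i) (RingHom.id R)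
      (fun r hr => by rw [hi, Ideal.mem_bot] at hr; exact hr))) ≫ (e i).inv ≫ pullback.fst _ _, ?_⟩
    rw [Category.assoc, hlift, ← Category.assoc, ← Spec.map_comp, ← CommRingCat.ofHom_comp, Ideal.Quotient.lift_comp_mk,
      CommRingCat.ofHom_id, Spec.map_id, Category.id_comp]
  haveI : IsImmersion (x i.1) := hx _
  obtain ⟨m, hmM, l, hl⟩ := SubNhd19.exists_section_away (C := Γ(X, W)) M
    (pullback.snd (x i.1) hW.fromSpec) (Or.inl inferInstance)
    (pullback.lift (Spec.map τ ≫ l₀) _ (by rw [Category.assoc, hl₀, hτ])) (pullback.lift_snd _ _ _)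
  -- contradiction with maximality
  let c : Spec (CommRingCat.of (Localization.Away m)) ⟶ X :=
    Spec.map (CommRingCat.ofHom (algebraMap Γ(X, W) (Localization.Away m))) ≫ hW.fromSpec
  haveI : IsOpenImmersion (Spec.map (CommRingCat.ofHom (algebraMap Γ(X, W) (Localization.Away m)))) :=
    IsOpenImmersion.of_isLocalization m
  haveI : IsOpenImmersion c := inferInstanceAs (IsOpenImmersion (_ ≫ hW.fromSpec))
  have hpc : p ∈ c.opensRange := by
    have hq : hW.primeIdealOf ⟨p, hpW⟩ ∈ Set.range (PrimeSpectrum.comap (algebraMap Γ(X, W) (Localization.Away m))) := by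
      rw [PrimeSpectrum.localization_away_comap_range (Localization.Away m) m]
      exact hmM
    obtain ⟨w, hw⟩ := hq
    refine ⟨w, ?_⟩
    exact (Scheme.Hom.comp_apply _ _ _).trans ((congrArg hW.fromSpec hw).trans (hW.fromSpec_primeIdealOf _))
  have hsec : ∃ l' : (c.opensRange : Scheme.{u}) ⟶ Xi i.1, l' ≫ x i.1 = c.opensRange.ι :=
    ⟨c.isoOpensRange.inv ≫ l ≫ pullback.fst _ _, by
      rw [Category.assoc, Category.assoc, pullback.condition, ← Category.assoc l, hl,
        Scheme.Hom.isoOpensRange_inv_comp]⟩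
  have hmem : p ∈ isoLocus (x i.1) :=
    le_iSup₂ (f := fun (V : X.Opens) (_ : ∃ l : (V : Scheme.{u}) ⟶ Xi i.1, l ≫ x i.1 = V.ι) => V) _ hsec hpc
  refine hmax (isoLocus (x i.1)) ⟨i.1, rfl⟩ (lt_of_le_of_ne (hmonoU _ _ (h₁₀.trans i.2)) fun heq => hp ?_)
  simp only at heq
  rw [heq]
  exact hmem

end Groth.Agent.ImmFam19

end
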